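import Groth.Agent.VBCurve.K553.SubDefs
import Groth.Agent.CycB.StalkExact

/-!
# Definitions for the count of maximal line subbundles (S15230), second part

* `K N l : T.left.Modules` for `l : List (T ⟶ C)`: the direct image under `T ×_S C ⟶ T` of
  `q^* N (- ∑ graphs of l)`; `Kπ : K N (z :: l) ⟶ K N l`, `Kι : K N l ⟶ K N []`;
* `ev N y : K N [] ⟶ y^* N`: restriction to the graph of `y`;
* `sec v : O_T ⟶ K N []` for `v : O ⟶ N`: the pulled back section;
* `cl C n i : List (Pw C n ⟶ C)`: the first `i` coordinates, in reverse order;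
* `pts x : List (pt ⟶ C)`: the list of the points of `x : Fin n → (pt ⟶ C)`, in the same order;
* `IsZ ε x`: `ε : Hom(O, N) → k` kills the sections vanishing on `∑ x`;
* `Red φ`: the morphism `φ : M ⟶ M'` has reduced zeros;
* `at x`: the point of the space of `T` defined by `x : pt ⟶ T`.
-/

set_option autoImplicit false
universe u
open CategoryTheory CategoryTheory.Limits AlgebraicGeometry

namespace K553.Sub

section gen

variable {S : Scheme.{u}} {C : Over S}

/-- The list `l` of maps `T ⟶ C`, on `T ×_S C`. -/
noncomputable def up {T : Over S} (l : List (T ⟶ C)) : List (TX C T ⟶ C) := l.map fun z => pr C T ≫ z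

/-- The direct image of `q^* N(-∑ graphs of l)`. -/
noncomputable def K {T : Over S} (N : C.left.Modules) (l : List (T ⟶ C)) : T.left.Modules :=
  (Coh.push (pr C T).left).obj (tw N (up l) (qr C T))

/-- forgetting one divisor -/
noncomputable def Kπ {T : Over S} (N : C.left.Modules) (z : T ⟶ C) (l : List (T ⟶ C)) :
    K N (z :: l) ⟶ K N l :=
  (Coh.push (pr C T).left).map (twπ N (pr C T ≫ z) (up l) (qr C T))

/-- `K N l ⟶ K N []` -/
noncomputable def Kι {T : Over S} (N : C.left.Modules) (l : List (T ⟶ C)) : K N l ⟶ K N [] :=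
  (Coh.push (pr C T).left).map (twι N (up l) (qr C T))

/-- Restriction of sections over `T ×_S C` to the graph of `y`. -/
noncomputable def ev {T : Over S} (N : C.left.Modules) (y : T ⟶ C) :
    K N ([] : List (T ⟶ C)) ⟶ (Scheme.Modules.pullback y.left).obj N :=
  (Coh.push (pr C T).left).map
      ((Scheme.Modules.pullbackPushforwardAdjunction (lft (𝟙 T) y).left).unit.app
        ((Scheme.Modules.pullback (qr C T).left).obj N)) ≫
    (Scheme.Modules.pushforwardComp (lft (𝟙 T) y).left (pr C T).left).hom.app _ ≫
    (Scheme.Modules.pushforwardCongr (show (lft (𝟙 T) y).left ≫ (pr C T).left = 𝟙 T.left by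
      rw [← Over.comp_left, lft_pr]; rfl)).hom.app _ ≫
    (Scheme.Modules.pushforwardId T.left).hom.app _ ≫
    (Scheme.Modules.pullbackComp (lft (𝟙 T) y).left (qr C T).left).hom.app N ≫
    (Scheme.Modules.pullbackCongr (show (lft (𝟙 T) y).left ≫ (qr C T).left = y.left by
      rw [← Over.comp_left, lft_qr])).hom.app N

/-- The pullback of a section of `N` under `y`. -/
noncomputable def psec {T : Over S} {N : C.left.Modules} (y : T ⟶ C)
    (v : Coh.structureModule C.left ⟶ N) :
    Coh.structureModule T.left ⟶ (Scheme.Modules.pullback y.left).obj N :=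
  (Groth.Agent.Krr.H482.PullTens.pullUnitIso y.left).inv ≫ (Scheme.Modules.pullback y.left).map v

/-- The section `1 ⊗ v` of `K N []`. -/
noncomputable def sec {T : Over S} {N : C.left.Modules} (v : Coh.structureModule C.left ⟶ N) :
    Coh.structureModule T.left ⟶ K N ([] : List (T ⟶ C)) :=
  ClSub.unitToPush (pr C T).left ≫ (Coh.push (pr C T).left).map (psec (qr C T) v)

/-- The first `i` coordinates, in reverse order. -/
noncomputable def cl (C : Over S) (n : ℕ) : ℕ → List (Pw C n ⟶ C)
  | 0 => []
  | i + 1 => if h : i < n then crd C n ⟨i, h⟩ :: cl C n i else cl C n i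

/-- The list of the points of a tuple, in reverse order. -/
def pts {n : ℕ} (x : Fin n → (pt S ⟶ C)) : List (pt S ⟶ C) := (List.ofFn x).reverse

/-- A morphism of modules `φ : M ⟶ M'` on a curve has reduced zeros: at every closed point the image of
the map on stalks contains `m_x M'_x`. -/
def Red {X : Scheme.{u}} {M M' : X.Modules} (φ : M ⟶ M') : Prop :=
  ∀ x : X, IsClosed ({x} : Set X) →
    IsLocalRing.maximalIdeal (X.presheaf.stalk x) • (⊤ : Submodule (X.presheaf.stalk x) (M'.presheaf.stalk x)) ≤
      LinearMap.range (Groth.Agent.CycB.StalkExact.stalkLin φ x)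

end gen

section field

variable {k : Type u} [Field k] {C : Over (Spec (CommRingCat.of k))}

/-- The point of the space of `T` defined by a section. -/
noncomputable def atp {T : Over (Spec (CommRingCat.of k))} (x : pt (Spec (CommRingCat.of k)) ⟶ T) : T.left :=
  x.left (IsLocalRing.closedPoint k)

/-- `ε` kills the sections vanishing on `∑ x`. -/
def IsZ {N : C.left.Modules} (ε : (Coh.structureModule C.left ⟶ N) →ₗ[k] k)
    (x : List (pt (Spec (CommRingCat.of k)) ⟶ C)) : Prop :=
  ∀ v, Van N x v → ε v = 0

/-- The germ at `t` of `sec v`. -/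
noncomputable def gsec {T : Over (Spec (CommRingCat.of k))} {N : C.left.Modules} (t : T.left)
    (v : Coh.structureModule C.left ⟶ N) :
    (K N ([] : List (T ⟶ C))).presheaf.stalk t :=
  (K N ([] : List (T ⟶ C))).presheaf.germ ⊤ t trivial ((sec v).app ⊤ (1 : Γ(T.left, ⊤)))

end field

end K553.Sub
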