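import Mathlib.Data.Fintype.Perm
import Mathlib.Data.Set.Card
import Mathlib.SetTheory.Cardinal.Finite
import Mathlib.Data.Fintype.Prod

/-!
# Counting unordered tuples
-/

set_option autoImplicit false

namespace K553.SubComb

/-- A finite set of injective `n`-tuples stable under permutations and of cardinality `n! m` consists of the
orderings of `m` subsets. -/
theorem exists_ranges {P : Type*} {n m : ℕ} (S : Set (Fin n → P)) (hfin : S.Finite)
    (hinj : ∀ x ∈ S, Function.Injective x)
    (hperm : ∀ x ∈ S, ∀ y : Fin n → P, Function.Injective y → Set.range y = Set.range x → y ∈ S)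
    (hcard : S.ncard = n.factorial * m) :
    ∃ f : Fin m → (Fin n → P), (∀ i, f i ∈ S) ∧ (∀ i j, Set.range (f i) = Set.range (f j) → i = j) ∧
      ∀ x ∈ S, ∃ i, Set.range (f i) = Set.range x := by
  classical
  let D : Set (Set P) := Set.range '' S
  have hD : D.Finite := hfin.image _
  have hch : ∀ d : D, ∃ x ∈ S, Set.range x = d := fun d => d.2
  choose r hr1 hr2 using hch
  have hmem : ∀ (d : D) (σ : Equiv.Perm (Fin n)), r d ∘ σ ∈ S := by
    intro d σ
    exact hperm _ (hr1 d) _ ((hinj _ (hr1 d)).comp σ.injective) (by rw [Set.range_comp, σ.surjective.range_eq, Set.image_univ])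
  let Φ : D × Equiv.Perm (Fin n) → S := fun p => ⟨r p.1 ∘ p.2, hmem p.1 p.2⟩
  have hΦ : Function.Bijective Φ := by
    constructor
    · rintro ⟨d, σ⟩ ⟨d', σ'⟩ h
      have h1 : r d ∘ σ = r d' ∘ σ' := congrArg Subtype.val h
      have h2 : d = d' := by
        apply Subtype.ext
        rw [← hr2 d, ← hr2 d']
        have h3 : Set.range (r d ∘ σ) = Set.range (r d' ∘ σ') := by rw [h1]
        rwa [Set.range_comp, σ.surjective.range_eq, Set.image_univ, Set.range_comp, σ'.surjective.range_eq,
          Set.image_univ] at h3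
      subst h2
      refine Prod.ext rfl ?_
      ext i
      exact congrArg Fin.val (hinj _ (hr1 d) (congrFun h1 i))
    · rintro ⟨x, hx⟩
      let d : D := ⟨Set.range x, x, hx, rfl⟩
      have h1 : ∀ i, ∃ j, r d j = x i := fun i => by
        have : x i ∈ Set.range (r d) := by rw [hr2 d]; exact ⟨i, rfl⟩
        exact this
      choose s hs using h1
      have hsinj : Function.Injective s := fun i j h => hinj _ hx (by rw [← hs i, ← hs j, h])
      refine ⟨⟨d, Equiv.ofBijective s (Finite.injective_iff_bijective.1 hsinj)⟩, Subtype.ext ?_⟩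
      funext i
      exact hs i
  have h1 : Nat.card S = Nat.card D * n.factorial := by
    rw [← Nat.card_congr (Equiv.ofBijective Φ hΦ), Nat.card_prod, Nat.card_eq_fintype_card (α := Equiv.Perm (Fin n)),
      Fintype.card_perm, Fintype.card_fin]
  have h2 : Nat.card D = m := by
    have h3 : Nat.card S = n.factorial * m := hcard
    rw [h3, mul_comm] at h1
    exact (Nat.eq_of_mul_eq_mul_right n.factorial_pos h1).symm
  have : Finite D := hD
  obtain ⟨e⟩ : Nonempty (Fin m ≃ D) := by
    have := Fintype.ofFinite D
    refine ⟨(Fintype.equivFinOfCardEq ?_).symm⟩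
    rw [← h2, Nat.card_eq_fintype_card]
  refine ⟨fun i => r (e i), fun i => hr1 _, fun i j h => ?_, fun x hx => ?_⟩
  · rw [hr2, hr2] at h
    exact e.injective (Subtype.ext h)
  · refine ⟨e.symm ⟨Set.range x, x, hx, rfl⟩, ?_⟩
    change Set.range (r (e (e.symm _))) = _
    rw [e.apply_symm_apply, hr2]

end K553.SubComb
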