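import Groth.Agent.VBCurve.K553.SubCount
import Groth.Agent.VBCurve.K553.SubComb
import Groth.Agent.VBCurve.K685.Trans
import Groth.Agent.VBCurve.K804.GenMain
import Groth.Agent.VBCurve.K52.Cross

/-!
# The number of maximal line subbundles
-/

set_option autoImplicit false
universe u
open CategoryTheory CategoryTheory.Limits AlgebraicGeometry

namespace K553.SubMain

open K553.Sub K553.SubFin K553.SubZero K553.SubCount K553.SubDeg

variable {k : Type u} [Field k] [IsAlgClosed k] (C : Over (Spec (CommRingCat.of k)))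
  [IsIntegral C.left] [IsProper C.hom] [Smooth C.hom] (hdim : topologicalKrullDim C.left = 1)
  {g : ℕ} (hgen : Curv2.genus k C.left = g)

/-! ### the main argument -/

include hdim in
theorem deg_le_of_hom {M M' : C.left.Modules} (hM : PicF.IsInvertible M) (hM' : PicF.IsInvertible M')
    (φ : M ⟶ M') (hφ : φ ≠ 0) : Curv2.deg k C.left M 1 ≤ Curv2.deg k C.left M' 1 := by
  have hpr : IsProper (C.left ↘ Spec (CommRingCat.of k)) := inferInstanceAs (IsProper C.hom)
  exact (Groth.Agent.S1521.result k C.left hdim _ _ hM hM' φ hφ).1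

theorem pts_length {n : ℕ} {S : Scheme.{u}} {C : Over S} (x : Fin n → (pt S ⟶ C)) : (pts x).length = n := by
  simp [pts]

include hdim in
theorem deg_lift {B : C.left.Modules} (hB : PicF.IsInvertible B) {n : ℕ}
    (x : Fin n → (pt (Spec (CommRingCat.of k)) ⟶ C)) :
    Curv2.deg k C.left (twp B (pts x)) 1 = Curv2.deg k C.left B 1 - n := by
  rw [deg_twp C hdim B hB, pts_length]

include hdim in
/-- Liftings are unique. -/
theorem lift_unique {A E B M : C.left.Modules} (hA : PicF.IsInvertible A) (hM : PicF.IsInvertible M)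
    (a : A ⟶ E) (b : E ⟶ B) (w : a ≫ b = 0) (hS : (ShortComplex.mk a b w).ShortExact)
    (hlt : Curv2.deg k C.left A 1 < Curv2.deg k C.left M 1)
    (φ φ' : M ⟶ E) (h : φ ≫ b = φ' ≫ b) : φ = φ' := by
  have hm : Mono (ShortComplex.mk a b w).f := hS.mono_f
  have h1 : (φ - φ') ≫ (ShortComplex.mk a b w).g = 0 := by
    change (φ - φ') ≫ b = 0
    rw [Preadditive.sub_comp, h, sub_self]
  have h2 := hS.exact.lift_f (φ - φ') h1
  by_contra hne
  have h3 : hS.exact.lift (φ - φ') h1 ≠ 0 := by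
    intro h0
    rw [h0, zero_comp] at h2
    exact hne (sub_eq_zero.1 h2.symm)
  exact absurd (deg_le_of_hom C hdim hM hA _ h3) (not_le.2 hlt)

include hdim in
/-- A monomorphism `M ⟶ E` of degree larger than `deg A` is the lift of some `B(-∑ x) ⟶ B`. -/
theorem exists_tuple {A E B M : C.left.Modules} (hA : PicF.IsInvertible A) (hB : PicF.IsInvertible B)
    (hM : PicF.IsInvertible M)
    (a : A ⟶ E) (b : E ⟶ B) (w : a ≫ b = 0) (hS : (ShortComplex.mk a b w).ShortExact)
    (hlt : Curv2.deg k C.left A 1 < Curv2.deg k C.left M 1) (m : M ⟶ E) (hm : Mono m) (n : ℕ)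
    (hn : Curv2.deg k C.left B 1 = Curv2.deg k C.left M 1 + n) :
    ∃ (x : Fin n → (pt (Spec (CommRingCat.of k)) ⟶ C)) (e : M ≅ twp B (pts x)),
      (e.inv ≫ m) ≫ b = twpι B (pts x) := by
  have h0 : m ≫ b ≠ 0 := by
    intro h0
    have h1 := lift_unique C hdim hA hM a b w hS hlt m 0 (by rw [h0, zero_comp])
    have : Nonempty C.left := inferInstance
    exact K704.InvHom.ne_zero_of_mono hM m h1
  obtain ⟨x, e, he⟩ := exists_div_gen C hdim hM hB (m ≫ b) h0 n hn
  refine ⟨x, e, ?_⟩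
  rw [Category.assoc, ← he, Iso.inv_hom_id_assoc]

/-- Transport of a short exact sequence along an isomorphism of the first term. -/
theorem shortExact_of_iso {X : Scheme.{u}} {L L' E Q : X.Modules} (e : L' ≅ L) (l : L ⟶ E) (l' : L' ⟶ E)
    (h : e.hom ≫ l = l') (q : E ⟶ Q) (w : l ≫ q = 0) (hS : (ShortComplex.mk l q w).ShortExact) :
    ∃ w' : l' ≫ q = 0, (ShortComplex.mk l' q w').ShortExact := by
  have w' : l' ≫ q = 0 := by rw [← h, Category.assoc, w, comp_zero]
  refine ⟨w', ?_⟩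
  let i : ShortComplex.mk l q w ≅ ShortComplex.mk l' q w' :=
    ShortComplex.isoMk e.symm (Iso.refl E) (Iso.refl Q) (by
      dsimp
      rw [← h, Category.comp_id, Iso.inv_hom_id_assoc]) (by
      dsimp
      rw [Category.comp_id, Category.id_comp])
  exact ShortComplex.shortExact_of_iso i hS

variable [CharZero k] (E : C.left.Modules) (hE : FlatMod.IsFinLocFreeOfRank 2 E)
  {K : C.left.Modules} (eK : K ≅ Omega.sheaf C.hom)
  (hvs : ∀ α : E ⟶ CohB1.tensorMod E K,
        α ≫ (CohB1.sheafifyMod C.left).map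
          (MonoidalCategoryStruct.whiskerRight (C := CohB1.PMod C.left) α.val (CohB1.toPMod K)) = 0 → α = 0)
  (d : ℤ)
  (hmax : ∀ (M : C.left.Modules) (m : M ⟶ E), PicF.IsInvertible M → Mono m → Curv2.deg k C.left M 1 ≤ d)
  (hdE : Curv2.deg k C.left E 2 = 2 * d + (g - 1))

/-- A maximal line subbundle. -/
structure IsMx (d : ℤ) {M : C.left.Modules} (m : M ⟶ E) : Prop where
  inv : PicF.IsInvertible M
  mono : Mono m
  deg : Curv2.deg k C.left M 1 = d

include hdim hgen hE eK hvs hmax hdE in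
/-- There are finitely many maximal line subbundles. -/
theorem exists_family : ∃ (ι : Type) (_ : Finite ι) (L : ι → C.left.Modules) (l : ∀ i, L i ⟶ E)
    (_ : ∀ i, IsMx C E d (l i)),
    ∀ (M : C.left.Modules) (m : M ⟶ E), IsMx C E d m → ∃ (i : ι) (e : M ≅ L i), e.hom ≫ l i = m := by
  obtain ⟨A, B, a, b, w, hS, hA, hB, hdA, -⟩ := exists_general C hdim E hE (ι := Empty) (fun i => i.elim)
    (fun i => i.elim) (fun i => i.elim) (fun i => i.elim) (d - 1)
  have h1 := deg_ext C hdim hA hB hE a b w hS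
  have h2 : 0 ≤ Curv2.deg k C.left B 1 - d := by omega
  obtain ⟨n, hn⟩ := Int.eq_ofNat_of_zero_le h2
  have hn' : Curv2.deg k C.left B 1 = d + n := by omega
  have hgn : g ≤ n := by omega
  obtain ⟨N, hN, eN, ε, hε⟩ := exists_functional C hdim hA hB a b w hS
  have hdN := deg_N C hdim hgen hA hB hN eN
  obtain ⟨Z, hZ, hZ'⟩ := closed_zero C hdim hgen hgn hN (by rw [hdN]; omega) ε
  have hfin := finite_lifts C hdim hgen E hE eK hvs d hmax hdE hB b hn' Z hZ
    (fun t => (hZ' t).trans (hε _).symm)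
  obtain ⟨N', ⟨f⟩⟩ : ∃ N' : ℕ, Nonempty ({x : Fin n → (pt (Spec (CommRingCat.of k)) ⟶ C) |
      ∃ φ : twp B (pts x) ⟶ E, φ ≫ b = twpι B (pts x)} ≃ Fin N') := by
    have := hfin.to_subtype
    obtain ⟨N', ⟨f⟩⟩ := Finite.exists_equiv_fin {x : Fin n → (pt (Spec (CommRingCat.of k)) ⟶ C) |
      ∃ φ : twp B (pts x) ⟶ E, φ ≫ b = twpι B (pts x)}
    exact ⟨N', ⟨f⟩⟩
  have hinvB : ∀ l, PicF.IsInvertible (twp B l) := fun l => isInvertible_tw C hdim B hB _ _
  have hmx : ∀ x : Fin n → (pt (Spec (CommRingCat.of k)) ⟶ C), ∀ φ : twp B (pts x) ⟶ E,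
      φ ≫ b = twpι B (pts x) → IsMx C E d φ := by
    intro x φ hφ
    refine ⟨hinvB _, ?_, ?_⟩
    · have h3 : Mono (φ ≫ b) := by rw [hφ]; exact mono_twpι C hdim hB _
      exact mono_of_mono φ b
    · rw [deg_lift C hdim hB, hn']; ring
  refine ⟨Fin N', inferInstance, fun i => twp B (pts (f.symm i).1), fun i => (f.symm i).2.choose,
    fun i => hmx _ _ (f.symm i).2.choose_spec, fun M m hm => ?_⟩
  obtain ⟨x, e, he⟩ := exists_tuple C hdim hA hB hm.inv a b w hS (by rw [hm.deg]; omega) m hm.mono n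
    (by rw [hm.deg, hn'])
  have hx : x ∈ {x : Fin n → (pt (Spec (CommRingCat.of k)) ⟶ C) |
      ∃ φ : twp B (pts x) ⟶ E, φ ≫ b = twpι B (pts x)} := ⟨_, he⟩
  have key : ∀ y : {x : Fin n → (pt (Spec (CommRingCat.of k)) ⟶ C) |
      ∃ φ : twp B (pts x) ⟶ E, φ ≫ b = twpι B (pts x)}, y.1 = x →
      ∃ e : M ≅ twp B (pts y.1), e.hom ≫ y.2.choose = m := by
    rintro ⟨y, hy⟩ rfl
    refine ⟨e, ?_⟩
    have h4 : hy.choose = e.inv ≫ m := lift_unique C hdim hA (hinvB _) a b w hS
      (by rw [(hmx _ _ he).deg]; omega) _ _ (by rw [hy.choose_spec, he])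
    change e.hom ≫ hy.choose = m
    rw [h4, Iso.hom_inv_id_assoc]
  refine ⟨f ⟨x, hx⟩, key _ ?_⟩
  rw [f.symm_apply_apply]

include hdim hgen hE eK hvs hmax hdE in
/-- **There are exactly `2^g` maximal line subbundles.** -/
theorem main : ∃ (L : Fin (2 ^ g) → C.left.Modules) (j : ∀ i, L i ⟶ E),
      (∀ i, IsMx C E d (j i)) ∧
      (∀ i i', (∃ φ : L i ≅ L i', φ.hom ≫ j i' = j i) → i = i') ∧
      ∀ (M : C.left.Modules) (m : M ⟶ E), IsMx C E d m → ∃ (i : Fin (2 ^ g)) (φ : M ≅ L i), φ.hom ≫ j i = m := by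
  classical
  obtain ⟨ι, hι, L₀, l₀, hL₀, hcl⟩ := exists_family C hdim hgen E hE eK hvs d hmax hdE
  choose Q q wq hQ hSq hdQ using fun i => exists_quotient C hdim E hE d hmax (L₀ i) (l₀ i) (hL₀ i).inv
    (hL₀ i).mono (hL₀ i).deg
  obtain ⟨A, B, a, b, w, hS, hA, hB, hdA, hgp⟩ := exists_general C hdim E hE Q hQ q
    (fun i => (hSq i).epi_g) (d - 1)
  have h1 := deg_ext C hdim hA hB hE a b w hS
  have h2 : 0 ≤ Curv2.deg k C.left B 1 - d := by omega
  obtain ⟨n, hn⟩ := Int.eq_ofNat_of_zero_le h2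
  have hn' : Curv2.deg k C.left B 1 = d + n := by omega
  have hgn : g ≤ n := by omega
  obtain ⟨N, hN, eN, ε, hε⟩ := exists_functional C hdim hA hB a b w hS
  have hdN := deg_N C hdim hgen hA hB hN eN
  have hinvB : ∀ l, PicF.IsInvertible (twp B l) := fun l => isInvertible_tw C hdim B hB _ _
  have hmx : ∀ x : Fin n → (pt (Spec (CommRingCat.of k)) ⟶ C), ∀ φ : twp B (pts x) ⟶ E,
      φ ≫ b = twpι B (pts x) → IsMx C E d φ := by
    intro x φ hφ
    refine ⟨hinvB _, ?_, ?_⟩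
    · have h3 : Mono (φ ≫ b) := by rw [hφ]; exact mono_twpι C hdim hB _
      exact mono_of_mono φ b
    · rw [deg_lift C hdim hB, hn']; ring
  -- general position
  have hgen1 : ∀ (x : Fin n → (pt (Spec (CommRingCat.of k)) ⟶ C)) (φ : twp B (pts x) ⟶ E),
      φ ≫ b = twpι B (pts x) → Function.Injective x ∧
        ∃ (Q' : C.left.Modules) (q' : E ⟶ Q') (w' : φ ≫ q' = 0), PicF.IsInvertible Q' ∧
          (ShortComplex.mk φ q' w').ShortExact ∧ Curv2.deg k C.left Q' 1 = Curv2.deg k C.left E 2 - d ∧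
          Nonempty (A ≅ twp Q' (pts x)) := by
    intro x φ hφ
    obtain ⟨i, e, he⟩ := hcl _ φ (hmx x φ hφ)
    obtain ⟨w', hS'⟩ := shortExact_of_iso e (l₀ i) φ he (q i) (wq i) (hSq i)
    obtain ⟨c1, c2, c3⟩ := cross_iff C hA hB (hinvB _) (hQ i) a b w hS φ (q i) w' hS'
    obtain ⟨hne, hred⟩ := hgp i
    -- the divisor of `L ⟶ B`
    have hne' := c2.2 hne
    have hred' := c1.2 hred
    obtain ⟨y, hy, ⟨ey, hey⟩, hy'⟩ := exists_div C hdim (hinvB _) hB (φ ≫ b) hne' hred' n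
      (by rw [deg_lift C hdim hB]; ring)
    have hperm : (pts x).Perm (pts y) := count_eq_of_iso C hdim hB _ _ ey (by rw [hey, hφ])
    have hnd : (pts x).Nodup := by
      rw [hperm.nodup_iff]
      simpa [pts, List.nodup_ofFn] using hy
    refine ⟨by simpa [pts, List.nodup_ofFn] using hnd, Q i, q i, w', hQ i, hS', hdQ i, ?_⟩
    obtain ⟨z, hz, ⟨ez, -⟩, hz'⟩ := exists_div C hdim hA (hQ i) (a ≫ q i) hne hred n
      (by rw [hdQ i]; omega)
    have hzy : (pts z).Perm (pts x) := by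
      refine List.Perm.trans ?_ hperm.symm
      rw [List.perm_ext_iff_of_nodup (by simpa [pts, List.nodup_ofFn] using hz)
        (by simpa [pts, List.nodup_ofFn] using hy)]
      intro c
      have h3 : (c ∈ pts z ↔ ∃ i, z i = c) ∧ (c ∈ pts y ↔ ∃ i, y i = c) := by
        constructor <;> simp [pts, List.mem_ofFn]
      rw [h3.1, h3.2, hz' c, hy' c, c3]
    obtain ⟨e', -⟩ := exists_iso_of_perm C hdim (hQ i) _ _ hzy
    exact ⟨ez ≪≫ e'⟩
  -- the count
  obtain ⟨hfin, hcard⟩ := count_zero C hdim hgen hgn hN (by rw [hdN]; omega) ε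
    (fun x hx => by
      obtain ⟨φ, hφ⟩ := (hε _).2 hx
      exact (hgen1 x φ hφ).1)
    (fun x hx c l hl h0 => by
      obtain ⟨φ, hφ⟩ := (hε _).2 h0
      have hlen : l.length + 1 = n := by
        have := hl.length_eq
        rw [pts_length, List.length_cons] at this
        omega
      have h3 : Mono (φ ≫ b) := by rw [hφ]; exact mono_twpι C hdim hB _
      have h4 := hmax _ φ (hinvB _) (mono_of_mono φ b)
      rw [deg_twp C hdim B hB, hn'] at h4
      omega)
    (fun x hx v hv => by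
      obtain ⟨φ, hφ⟩ := (hε _).2 hx
      obtain ⟨-, Q', q', w', hQ', hS', hdQ', ⟨eA⟩⟩ := hgen1 x φ hφ
      obtain ⟨h3, -⟩ := very_stable C hdim hgen E hE eK hvs
        (hinvB _) hQ' φ q' w' hS' (by rw [hdQ', (hmx x φ hφ).deg, hdE]; ring)
      exact van_double C hdim hA hB (hinvB _) hQ' hN eN (pts x) eA (Iso.refl _) h3 v hv)
  obtain ⟨f, hf1, hf2, hf3⟩ := K553.SubComb.exists_ranges _ hfin
    (fun x hx => by
      obtain ⟨φ, hφ⟩ := (hε _).2 hx
      exact (hgen1 x φ hφ).1)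
    (fun x hx y hy hxy => by
      have hx0 := hx
      obtain ⟨φ, hφ⟩ := (hε _).2 hx
      have hxi := (hgen1 x φ hφ).1
      have hp : (pts y).Perm (pts x) := by
        rw [List.perm_ext_iff_of_nodup (by simpa [pts, List.nodup_ofFn] using hy)
          (by simpa [pts, List.nodup_ofFn] using hxi)]
        intro c
        have h3 : (c ∈ pts y ↔ c ∈ Set.range y) ∧ (c ∈ pts x ↔ c ∈ Set.range x) := by
          constructor <;> simp [pts, List.mem_ofFn]
        rw [h3.1, h3.2, hxy]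
      obtain ⟨e, he⟩ := exists_iso_of_perm C hdim hB _ _ hp
      exact (hε _).1 ⟨e.hom ≫ φ, by rw [Category.assoc, hφ, he]⟩) hcard
  choose j hj using fun i => (hε _).2 (hf1 i)
  refine ⟨fun i => twp B (pts (f i)), j, fun i => hmx _ _ (hj i), ?_, ?_⟩
  · rintro i i' ⟨φ, hφ⟩
    apply hf2
    have hp : (pts (f i)).Perm (pts (f i')) := count_eq_of_iso C hdim hB _ _ φ (by
      rw [← hj i', ← hj i, ← Category.assoc, hφ])
    ext c
    have h3 : (c ∈ pts (f i) ↔ c ∈ Set.range (f i)) ∧ (c ∈ pts (f i') ↔ c ∈ Set.range (f i')) := by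
      constructor <;> simp [pts, List.mem_ofFn]
    rw [← h3.1, ← h3.2, hp.mem_iff]
  · intro M m hm
    obtain ⟨x, e, he⟩ := exists_tuple C hdim hA hB hm.inv a b w hS (by rw [hm.deg]; omega) m hm.mono n
      (by rw [hm.deg, hn'])
    have hx : IsZ ε (pts x) := (hε _).1 ⟨_, he⟩
    obtain ⟨i, hi⟩ := hf3 x hx
    have hxi := (hgen1 x _ he).1
    have hfi := (hgen1 (f i) _ (hj i)).1
    have hp : (pts x).Perm (pts (f i)) := by
      rw [List.perm_ext_iff_of_nodup (by simpa [pts, List.nodup_ofFn] using hxi)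
        (by simpa [pts, List.nodup_ofFn] using hfi)]
      intro c
      have h3 : (c ∈ pts x ↔ c ∈ Set.range x) ∧ (c ∈ pts (f i) ↔ c ∈ Set.range (f i)) := by
        constructor <;> simp [pts, List.mem_ofFn]
      rw [h3.1, h3.2, hi]
    obtain ⟨e', he'⟩ := exists_iso_of_perm C hdim hB _ _ hp
    refine ⟨i, e ≪≫ e', ?_⟩
    refine lift_unique C hdim hA hm.inv a b w hS (by rw [hm.deg]; omega) _ _ ?_
    have h5 : m ≫ b = e.hom ≫ twpι B (pts x) := by
      rw [← he, Category.assoc, Iso.hom_inv_id_assoc]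
    rw [Category.assoc, hj, Iso.trans_hom, Category.assoc, he', h5]

end K553.SubMain
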