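import Groth.Agent.VBCurve.K553.SubChow
import Groth.Agent.Cyc.K307.Chern
import Groth.Agent.Cyc.K308.Dual

/-!
# Definitions for the count of maximal line subbundles (S15230), Chern classes

* `totc E : AddMonoid.End (GT T)`: the total Chern class of a locally free module of finite rank;
-/

set_option autoImplicit false
universe u
open CategoryTheory CategoryTheory.Limits AlgebraicGeometry

namespace K553.Sub

variable {k : Type u} [Field k] {C : Over (Spec (CommRingCat.of k))}

section

variable {T : Over (Spec (CommRingCat.of k))} [LocallyOfFiniteType T.hom]

open Classical in
/-- The total Chern class. -/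
noncomputable def totc (E : T.left.Modules) : AddMonoid.End (GT T) :=
  if h : ∃ r : ℕ, FlatMod.IsFinLocFreeOfRank r E then
    ∑ j ∈ Finset.range (h.choose + 1), K307.chE (dlt_setup T) h.choose_spec j
  else 0

end


end K553.Sub
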