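import Groth.Agent.VBCurve.K553.SubDefs2
import Groth.Agent.CycB.SetupLft
import Groth.Agent.CycB.SetupDVR
import Groth.Agent.Cyc.K308.RFilt
import Groth.Agent.Cyc.K308.Ops
import Groth.Agent.CycB.RelDim
import Groth.Agent.Cyc.K306.PtCyc
import Groth.Prelude.Def_ChowOps

/-!
# Definitions for the count of maximal line subbundles (S15230), Chow groups

For `T : Over (Spec k)` locally of finite type:
* `dlt T : T.left → ℤ`: the dimension function; `dlt_compat`, `dlt_setup`;
* `GT T`: the (ungraded) Chow group `K308.Grp.G T.left (dlt T)`;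
* `degT T : GT T → ℤ`: the degree of the zero-dimensional part;
* `fund T : GT T`: the class of `T` (integral);
* `cD a b : AddMonoid.End (GT T)` for `a b : T ⟶ C`: `- c_1(D a b)`, i.e. cap product with the pullback of the
  diagonal of `C ×_k C`; `cN N y`: cap product with `c_1(y^* N)`;
* `NumZ f`: `f : AddMonoid.End (GT T)` is numerically zero;
* `ell N l y`: `- c_1(tw N l y)`;
* `pushT f : GT U →+ GT T`: proper pushforward.
-/

set_option autoImplicit false
universe u
open CategoryTheory CategoryTheory.Limits AlgebraicGeometry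

namespace K553.Sub

variable {k : Type u} [Field k] {C : Over (Spec (CommRingCat.of k))}

section lft

variable (T : Over (Spec (CommRingCat.of k))) [LocallyOfFiniteType T.hom]

/-- The dimension function. -/
noncomputable def dlt : T.left → ℤ :=
  (Groth.Agent.CycB.SetupLft.exists_deltaCompat T.hom (fun _ => (0 : ℤ))).choose

theorem dlt_compat : Cyc.DeltaCompat T.hom (dlt T) (fun _ => 0) :=
  (Groth.Agent.CycB.SetupLft.exists_deltaCompat T.hom (fun _ => (0 : ℤ))).choose_spec

theorem dlt_setup : Cyc.IsSetup T.left (dlt T) :=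
  Groth.Agent.CycB.SetupLft.isSetup_of_deltaCompat T.hom (Groth.Agent.CycB.SetupDVR.isSetup_spec_field k)
    (dlt_compat T)

/-- The Chow group. -/
abbrev GT : Type u := K308.Grp.G T.left (dlt T)

/-- The degree. -/
noncomputable def degT [QuasiCompact T.hom] (a : GT T) : ℤ :=
  ChowOps.deg T.hom (dlt T) (K308.Grp.cl_surjective (dlt T) a).choose

/-- The fundamental class. -/
noncomputable def fund [IsIntegral T.left] : GT T :=
  K308.Grp.cl (dlt T) (K306.PtCyc.ptCyc (genericPoint T.left))

end lft

section ops

variable {T : Over (Spec (CommRingCat.of k))} [LocallyOfFiniteType T.hom]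

/-- Cap product with the pullback of the diagonal. -/
noncomputable def cD (a b : T ⟶ C) : AddMonoid.End (GT T) := - K308.Grp.C1 (dlt T) (D a b)

/-- Cap product with `c_1(y^* N)`. -/
noncomputable def cN (N : C.left.Modules) (y : T ⟶ C) : AddMonoid.End (GT T) :=
  K308.Grp.C1 (dlt T) ((Scheme.Modules.pullback y.left).obj N)

/-- Cap product with the pullback of the point `x₀` under `y`. -/
noncomputable def cP (x₀ : pt (Spec (CommRingCat.of k)) ⟶ C) (y : T ⟶ C) : AddMonoid.End (GT T) :=
  cD (toPt T ≫ x₀) y

/-- `- c_1(tw N l y)` -/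
noncomputable def ell (N : C.left.Modules) (l : List (T ⟶ C)) (y : T ⟶ C) : AddMonoid.End (GT T) :=
  - K308.Grp.C1 (dlt T) (tw N l y)

/-- Numerically zero operators. -/
def NumZ [QuasiCompact T.hom] (f : AddMonoid.End (GT T)) : Prop := ∀ a, degT T (f a) = 0

end ops

section push

variable {U T : Over (Spec (CommRingCat.of k))} [LocallyOfFiniteType U.hom] [LocallyOfFiniteType T.hom] (f : U ⟶ T)

theorem pushT_compat : Cyc.DeltaCompat f.left (dlt U) (dlt T) := by
  have : LocallyOfFiniteType (f.left ≫ T.hom) := by
    rw [Over.w]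
    infer_instance
  have : LocallyOfFiniteType f.left := locallyOfFiniteType_of_comp f.left T.hom
  obtain ⟨δ, hδ⟩ := Groth.Agent.CycB.SetupLft.exists_deltaCompat f.left (dlt T)
  have h1 : Cyc.DeltaCompat (f.left ≫ T.hom) δ (fun _ => 0) :=
    Groth.Agent.CycB.RelDim.deltaCompat_comp hδ (dlt_compat T)
  have h2 : Cyc.DeltaCompat U.hom δ (fun _ => 0) := by
    rw [Over.w] at h1
    exact h1
  rwa [Groth.Agent.CycB.SetupLft.deltaCompat_unique h2 (dlt_compat U)] at hδ

/-- Proper pushforward. -/
noncomputable def pushT [IsProper f.left] : GT U →+ GT T :=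
  K308.Grp.push (dlt_setup U) (dlt_setup T) f.left (pushT_compat f)

end push

end K553.Sub
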