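import Groth.Agent.VBCurve.K587.TowerAux
import Groth.Agent.VBCurve.K433.SubRank
import Groth.Agent.VBCurve.K405.SubFree
import Groth.Agent.VBCurve.K363.LocGeOf
import Groth.Agent.VBCurve.K427.SubVan
import Groth.Agent.VBCurve.K226.Pow

/-!
# The tower and the local analysis at a simple zero, assembled (S15230)
-/

set_option autoImplicit false
universe u
open CategoryTheory CategoryTheory.Limits AlgebraicGeometry

namespace K553.SubGlue

open K553.Sub

variable {k : Type u} [Field k] [IsAlgClosed k] (C : Over (Spec (CommRingCat.of k)))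
  [IsIntegral C.left] [IsProper C.hom] [Smooth C.hom] (hdim : topologicalKrullDim C.left = 1)

section tower

variable {g : ℕ} (hgen : Curv2.genus k C.left = g) {T : Over (Spec (CommRingCat.of k))} [IsIntegral T.left]
  [IsProper T.hom] {N : C.left.Modules} (hN : PicF.IsInvertible N)

include hdim hgen hN in
/-- the tower -/
theorem exists_tower (l : List (T ⟶ C)) (z : T ⟶ C)
    (hl : 2 * (g : ℤ) - 1 ≤ Curv2.deg k C.left N 1 - (z :: l).length) :
    ∃ (b : K N l ⟶ tw N l z) (w : Kπ N z l ≫ b = 0), (ShortComplex.mk _ _ w).ShortExact ∧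
      b ≫ twι N l z = Kι N l ≫ ev N z := by
  haveI : HasInjectiveResolutions (TX C T).left.Modules :=
    Groth.Agent.Dcoh.DerSch.hasInjectiveResolutions (X := (TX C T).left)
  exact K587.Tower.exists_tower_of C hdim hN l z (K433.SubRank.isZero_Rpush C hdim hgen hN (z :: l) hl 1 le_rfl)

end tower

variable {g : ℕ} (hgen : Curv2.genus k C.left = g) {n : ℕ} (hgn : g ≤ n)
  {N : C.left.Modules} (hN : PicF.IsInvertible N) (hd : Curv2.deg k C.left N 1 = 2 * (n : ℤ) - 1 + g)
  (ε : (Coh.structureModule C.left ⟶ N) →ₗ[k] k)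

include hdim hgen hgn hN hd in
theorem loc_ge (e : K N ([] : List (Pw C n ⟶ C)) ⟶ Coh.structureModule (Pw C n).left)
    (he : ∀ v : Coh.structureModule C.left ⟶ N, sec v ≫ e = (ε v) • 𝟙 (Coh.structureModule (Pw C n).left))
    (t : pt (Spec (CommRingCat.of k)) ⟶ Pw C n)
    (h : IsZ ε (pts fun i => t ≫ crd C n i))
    (hinj : Function.Injective fun i => t ≫ crd C n i)
    (hmin : ∀ (c : pt (Spec (CommRingCat.of k)) ⟶ C) (l : List (pt (Spec (CommRingCat.of k)) ⟶ C)),
      (pts fun i => t ≫ crd C n i).Perm (c :: l) → ¬ IsZ ε l)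
    (hdbl : ∀ v : Coh.structureModule C.left ⟶ N,
      Van N ((pts fun i => t ≫ crd C n i) ++ (pts fun i => t ≫ crd C n i)) v → v = 0) :
    IsLocalRing.maximalIdeal ((Pw C n).left.presheaf.stalk (atp t)) •
        (⊤ : Submodule ((Pw C n).left.presheaf.stalk (atp t))
          ((Coh.structureModule (Pw C n).left).presheaf.stalk (atp t))) ≤
      LinearMap.range (Groth.Agent.CycB.StalkExact.stalkLin (Kι N (cl C n n) ≫ e) (atp t)) := by
  classical
  haveI : IsIntegral (Pw C n).left := isIntegral_Pw C hdim n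
  haveI : IsProper (Pw C n).hom := (smooth_Pw C n).2
  refine K363.LocGe.loc_ge_of C hdim hgn hN hd ε ?_ ?_ ?_ ?_ e he t h hinj hmin hdbl
  · intro x _ v
    exact van_iff C hdim N hN x v
  · intro x
    obtain ⟨h1, -, h2⟩ := finrank_vanSub C hdim hgen N hN x
    exact ⟨h1, h2⟩
  · intro l z hl
    exact exists_tower C hdim hgen hN l z hl
  · intro v y
    exact sec_ev C v y

end K553.SubGlue
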