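import Groth.Agent.VBCurve.K553.SubZero
import Groth.Agent.VBCurve.K553.SubGlue
import Groth.Agent.VBCurve.K826.SubWhit
import Groth.Agent.VBCurve.K420.SubZero
import Groth.Agent.VBCurve.K323.SubNum

/-!
# The number of zeros
-/

set_option autoImplicit false
universe u
open CategoryTheory CategoryTheory.Limits AlgebraicGeometry

namespace K553.SubCount

open K553.Sub K553.SubFin K553.SubZero K553.SubGlue

open Groth.Agent.CycB.StalkExact

variable {k : Type u} [Field k] [IsAlgClosed k] (C : Over (Spec (CommRingCat.of k)))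
  [IsIntegral C.left] [IsProper C.hom] [Smooth C.hom] (hdim : topologicalKrullDim C.left = 1)
  {g : ℕ} (hgen : Curv2.genus k C.left = g)

include hdim hgen in
theorem count_zero {n : ℕ} (hgn : g ≤ n) {N : C.left.Modules} (hN : PicF.IsInvertible N)
    (hd : Curv2.deg k C.left N 1 = 2 * (n : ℤ) - 1 + g) (ε : (Coh.structureModule C.left ⟶ N) →ₗ[k] k)
    (hinj : ∀ x : Fin n → (pt (Spec (CommRingCat.of k)) ⟶ C), IsZ ε (pts x) → Function.Injective x)
    (hmin : ∀ x : Fin n → (pt (Spec (CommRingCat.of k)) ⟶ C), IsZ ε (pts x) →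
      ∀ (c : pt (Spec (CommRingCat.of k)) ⟶ C) (l : List (pt (Spec (CommRingCat.of k)) ⟶ C)),
        (pts x).Perm (c :: l) → ¬ IsZ ε l)
    (hdbl : ∀ x : Fin n → (pt (Spec (CommRingCat.of k)) ⟶ C), IsZ ε (pts x) →
      ∀ v : Coh.structureModule C.left ⟶ N, Van N (pts x ++ pts x) v → v = 0) :
    {x : Fin n → (pt (Spec (CommRingCat.of k)) ⟶ C) | IsZ ε (pts x)}.Finite ∧
    {x : Fin n → (pt (Spec (CommRingCat.of k)) ⟶ C) | IsZ ε (pts x)}.ncard = n.factorial * 2 ^ g := by
  classical
  have := finite_V C hdim hgen hN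
  obtain ⟨hsm, hpr⟩ := smooth_Pw C n
  have hint := isIntegral_Pw C hdim n
  obtain ⟨e, he⟩ := exists_epsT C hN ε (T := Pw C n)
  have hrank : ∀ i ≤ n, FlatMod.IsFinLocFreeOfRank (2 * n - i) (K N (cl C n i)) := fun i hi =>
    rank_K C hdim hgen hN (cl C n i) (by rw [cl_length C n i hi, hd]; omega) _
      (by rw [cl_length C n i hi, hd]; omega)
  -- Chern classes
  have hB := degT_num C hdim hgen n hgn N hN hd (fun i => totc (K308.Grp.dl (K N (cl C n i))))
    (by
      have h1 := isIso_desc_sec C hN (T := Pw C n) (Module.finBasis k (Coh.structureModule C.left ⟶ N))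
      exact totc_free (@asIso _ _ _ _ _ h1))
    (fun i hi => by
      have h1 : cl C n (i + 1) = crd C n ⟨i, hi⟩ :: cl C n i := by rw [cl, dif_pos hi]
      rw [h1]
      obtain ⟨b, w, hS, -⟩ := exists_tower C hdim hgen hN (cl C n i) (crd C n ⟨i, hi⟩)
        (by rw [List.length_cons, cl_length C n i hi.le, hd]; push_cast; omega)
      have h2 : FlatMod.IsFinLocFreeOfRank (2 * n - (i + 1)) (K N (crd C n ⟨i, hi⟩ :: cl C n i)) := by
        rw [← h1]; exact hrank (i + 1) hi
      have h3 : FlatMod.IsFinLocFreeOfRank (2 * n - (i + 1) + 1) (K N (cl C n i)) := by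
        have h4 : 2 * n - (i + 1) + 1 = 2 * n - i := by omega
        rw [h4]; exact hrank i hi.le
      have h4 := totc_step h2 h3 (isInvertible_tw C hdim N hN _ _) _ b w hS
      rw [sub_eq_add_neg] at h4
      exact h4)
  -- the zeros
  have hrk : FlatMod.IsFinLocFreeOfRank n (K N (cl C n n)) := by
    have h1 := hrank n le_rfl
    have h2 : 2 * n - n = n := by omega
    rwa [h2] at h1
  obtain ⟨hfin, hdeg⟩ := degT_totc_eq_ncard (Pw C n) n (dim_Pw C hdim n) (K N (cl C n n)) hrk
    (Kι N (cl C n n) ≫ e) (fun t ht => by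
      obtain ⟨x, rfl, -⟩ := exists_pt (T := Pw C n) t ht
      by_cases hz : IsZ ε (pts fun i => x ≫ crd C n i)
      · exact Or.inr (le_antisymm (loc_le C hdim hgen hgn hN hd ε e he x hz)
          (loc_ge C hdim hgen hgn hN hd ε e he x hz (hinj _ hz) (hmin _ hz) (hdbl _ hz)))
      · exact Or.inl (loc_surj C hdim hgen hgn hN hd ε e he x hz))
  have himg : (fun x => atp (tup n x)) '' {x : Fin n → (pt (Spec (CommRingCat.of k)) ⟶ C) | IsZ ε (pts x)} =
      {t : (Pw C n).left | IsClosed ({t} : Set (Pw C n).left) ∧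
        ¬ Function.Surjective (stalkLin (Kι N (cl C n n) ≫ e) t)} := by
    apply Set.Subset.antisymm
    · rintro _ ⟨x, hx, rfl⟩
      refine ⟨isClosed_atp (T := Pw C n) _, not_surj_of_le _ _ (loc_le C hdim hgen hgn hN hd ε e he _ ?_)⟩
      rw [pts_tup C x]
      exact hx
    · rintro t ⟨ht, ht'⟩
      obtain ⟨x, rfl, -⟩ := exists_pt (T := Pw C n) t ht
      have hz : IsZ ε (pts fun i => x ≫ crd C n i) := by
        by_contra h
        exact ht' (loc_surj C hdim hgen hgn hN hd ε e he x h)
      refine ⟨fun i => x ≫ crd C n i, hz, ?_⟩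
      change atp (tup n fun i => x ≫ crd C n i) = atp x
      congr 1
      exact pw_ext C fun i => tup_crd C n _ i
  have hinj' : Function.Injective (fun x : Fin n → (pt (Spec (CommRingCat.of k)) ⟶ C) => atp (tup n x)) := by
    intro x y hxy
    obtain ⟨t, -, ht⟩ := exists_pt (T := Pw C n) (atp (tup n x)) (isClosed_atp _)
    have h1 : tup n x = tup n y := (ht _ rfl).trans (ht _ hxy.symm).symm
    funext i
    rw [← tup_crd C n x i, ← tup_crd C n y i, h1]
  refine ⟨Set.Finite.of_finite_image (f := fun x => atp (tup n x)) (by rw [himg]; exact hfin) hinj'.injOn, ?_⟩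
  rw [← Set.ncard_image_of_injective _ hinj', himg]
  have h5 := hdeg.symm.trans hB
  exact_mod_cast h5

end K553.SubCount
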