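import Groth.Agent.Dcoh.MonCat
import Groth.Agent.Krr.H482.PullTens
import Groth.Prelude.Def_ClSub2
import Groth.Prelude.Def_Curv2
import Groth.Prelude.Def_KLin

/-!
# Definitions for the count of maximal line subbundles (S15230)

`C : Over S` with `S = Spec k`.
* `TX C T : Over S` is `T ×_S C`, `pr T : TX C T ⟶ T`, `qr T : TX C T ⟶ C`, `lft a b : U ⟶ TX C T`;
* `Pw C n : Over S` is the `n`-fold product `(…(S × C) × …) × C`, `crd C n : Fin n → (Pw C n ⟶ C)`;
* `D a b : T.left.Modules` for `a b : T ⟶ C`: the pullback of the ideal module of the diagonal of `C ×_S C`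
  under `(a, b)`; `Dι a b : D a b ⟶ O`;
* `tw N l y` for `N : C.left.Modules`, `l : List (T ⟶ C)`, `y : T ⟶ C`: the module
  `D z₁ y ⊗ (D z₂ y ⊗ … ⊗ y^* N)`; `twι N l y : tw N l y ⟶ y^* N`;
* for points `x : List (pt ⟶ C)` (`pt = Over.mk (𝟙 S)`): `twp N x : C.left.Modules`, i.e. `N(-∑ x)`, with
  `twpι N x : twp N x ⟶ N`;
* `Van N x v`: the section `v : O ⟶ N` vanishes on `∑ x`.
-/

set_option autoImplicit false
universe u
open CategoryTheory CategoryTheory.Limits AlgebraicGeometry

namespace K553.Sub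

variable {S : Scheme.{u}} {C : Over S}

/-- `T ×_S C` -/
noncomputable def TX (C T : Over S) : Over S := Over.mk (pullback.fst T.hom C.hom ≫ T.hom)

/-- the first projection -/
noncomputable def pr (C T : Over S) : TX C T ⟶ T := Over.homMk (pullback.fst T.hom C.hom) rfl

/-- the second projection -/
noncomputable def qr (C T : Over S) : TX C T ⟶ C :=
  Over.homMk (pullback.snd T.hom C.hom) pullback.condition.symm

/-- maps to the product -/
noncomputable def lft {U T : Over S} (a : U ⟶ T) (b : U ⟶ C) : U ⟶ TX C T :=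
  Over.homMk (pullback.lift a.left b.left (by rw [Over.w, Over.w])) (by
    change _ ≫ pullback.fst T.hom C.hom ≫ T.hom = _
    rw [pullback.lift_fst_assoc, Over.w])

@[reassoc (attr := simp)]
theorem lft_pr {U T : Over S} (a : U ⟶ T) (b : U ⟶ C) : lft a b ≫ pr C T = a := by
  ext1
  exact pullback.lift_fst _ _ _

@[reassoc (attr := simp)]
theorem lft_qr {U T : Over S} (a : U ⟶ T) (b : U ⟶ C) : lft a b ≫ qr C T = b := by
  ext1
  exact pullback.lift_snd _ _ _

theorem TX_hom_ext {U T : Over S} {f g : U ⟶ TX C T} (h1 : f ≫ pr C T = g ≫ pr C T)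
    (h2 : f ≫ qr C T = g ≫ qr C T) : f = g := by
  ext1
  exact pullback.hom_ext (congrArg CommaMorphism.left h1) (congrArg CommaMorphism.left h2)

/-- the point -/
abbrev pt (S : Scheme.{u}) : Over S := Over.mk (𝟙 S)

/-- the structure morphism as a morphism over `S` -/
def toPt (T : Over S) : T ⟶ pt S := Over.homMk T.hom (Category.comp_id _)

/-- The powers of `C`. -/
noncomputable def Pw (C : Over S) : ℕ → Over S
  | 0 => pt S
  | n + 1 => TX C (Pw C n)

/-- The coordinates. -/
noncomputable def crd (C : Over S) : (n : ℕ) → Fin n → (Pw C n ⟶ C)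
  | 0 => fun i => i.elim0
  | n + 1 => Fin.snoc (α := fun _ => Pw C (n + 1) ⟶ C) (fun i => pr C (Pw C n) ≫ crd C n i) (qr C (Pw C n))

/-- The morphism to the power with given coordinates. -/
noncomputable def tup {T : Over S} : (n : ℕ) → (Fin n → (T ⟶ C)) → (T ⟶ Pw C n)
  | 0 => fun _ => toPt T
  | n + 1 => fun x => lft (tup n fun i => x i.castSucc) (x (Fin.last n))

/-- The ideal module of the diagonal. -/
noncomputable def diagMod (C : Over S) : (pullback C.hom C.hom).Modules :=
  ClSub.idealMod (pullback.diagonal C.hom).ker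

/-- The pair `(a, b)` -/
noncomputable def pair {T : Over S} (a b : T ⟶ C) : T.left ⟶ pullback C.hom C.hom :=
  pullback.lift a.left b.left (by rw [Over.w, Over.w])

/-- The pullback of the ideal of the diagonal under `(a, b)`. -/
noncomputable def D {T : Over S} (a b : T ⟶ C) : T.left.Modules :=
  (Scheme.Modules.pullback (pair a b)).obj (diagMod C)

/-- The canonical map `D a b ⟶ O`. -/
noncomputable def Dι {T : Over S} (a b : T ⟶ C) : D a b ⟶ Coh.structureModule T.left :=
  (Scheme.Modules.pullback (pair a b)).map (ClSub.idealModι (pullback.diagonal C.hom).ker) ≫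
    (Groth.Agent.Krr.H482.PullTens.pullUnitIso (pair a b)).hom

open scoped Groth.Agent.Dcoh.MonCat
open MonoidalCategory

/-- `D z₁ y ⊗ (D z₂ y ⊗ … ⊗ y^* N)` -/
noncomputable def tw {T : Over S} (N : C.left.Modules) : List (T ⟶ C) → (T ⟶ C) → T.left.Modules
  | [], y => (Scheme.Modules.pullback y.left).obj N
  | z :: l, y => CohB1.tensorMod (D z y) (tw N l y)

/-- forgetting one divisor -/
noncomputable def twπ {T : Over S} (N : C.left.Modules) (z : T ⟶ C) (l : List (T ⟶ C)) (y : T ⟶ C) :
    tw N (z :: l) y ⟶ tw N l y :=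
  (Dι z y ▷ tw N l y : D z y ⊗ tw N l y ⟶ 𝟙_ T.left.Modules ⊗ tw N l y) ≫ (λ_ (tw N l y)).hom

/-- The canonical map `tw N l y ⟶ y^* N`. -/
noncomputable def twι {T : Over S} (N : C.left.Modules) :
    (l : List (T ⟶ C)) → (y : T ⟶ C) → (tw N l y ⟶ (Scheme.Modules.pullback y.left).obj N)
  | [], _ => 𝟙 _
  | z :: l, y => twπ N z l y ≫ twι N l y

/-- The constant morphism `C ⟶ pt ⟶ C` -/
def cst (x : pt S ⟶ C) : C ⟶ C := toPt C ≫ x

/-- `N(-∑ x)` for a list `x` of sections. -/
noncomputable def twp (N : C.left.Modules) (x : List (pt S ⟶ C)) : C.left.Modules :=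
  tw N (x.map cst) (𝟙 C)

/-- The canonical map `N(-∑ x) ⟶ N`. -/
noncomputable def twpι (N : C.left.Modules) (x : List (pt S ⟶ C)) : twp N x ⟶ N :=
  twι N (x.map cst) (𝟙 C) ≫ (Scheme.Modules.pullbackId C.left).hom.app N

/-- The section `v` vanishes on `∑ x`. -/
def Van (N : C.left.Modules) (x : List (pt S ⟶ C)) (v : Coh.structureModule C.left ⟶ N) : Prop :=
  ∃ w : Coh.structureModule C.left ⟶ twp N x, w ≫ twpι N x = v

end K553.Sub
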