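import Groth.Agent.VBCurve.K706.Secant
import Groth.Agent.VBCurve.K553.SubDefs2
import Groth.Prelude.Def_Omega2

/-!
# Degrees
-/

set_option autoImplicit false
universe u
open CategoryTheory CategoryTheory.Limits AlgebraicGeometry

namespace K553.SubDeg

open K553.Sub Groth.Agent MonoidalCategory
open scoped Groth.Agent.Dcoh.MonCat

variable {k : Type u} [Field k] [IsAlgClosed k] (C : Over (Spec (CommRingCat.of k)))
  [IsIntegral C.left] [IsProper C.hom] [Smooth C.hom] (hdim : topologicalKrullDim C.left = 1)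
  {g : ℕ} (hgen : Curv2.genus k C.left = g)

include hdim in
theorem deg_ext {A E B : C.left.Modules} (hA : PicF.IsInvertible A) (hB : PicF.IsInvertible B)
    (hE : FlatMod.IsFinLocFreeOfRank 2 E)
    (a : A ⟶ E) (b : E ⟶ B) (w : a ≫ b = 0) (hS : (ShortComplex.mk a b w).ShortExact) :
    Curv2.deg k C.left E 2 = Curv2.deg k C.left A 1 + Curv2.deg k C.left B 1 := by
  have h1 : IsProper (C.left ↘ Spec (CommRingCat.of k)) := inferInstanceAs (IsProper C.hom)
  have hA' := K706.VStab.rank_one hA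
  have hB' := K706.VStab.rank_one hB
  have h2 := K707.Deg.dg_add (k := k) (ShortComplex.mk a b w) hS (K707.Base.isCoh_of_rank hA')
    (K707.Base.isCoh_of_rank hE) (K707.Base.isCoh_of_rank hB')
  rw [← K707.Deg.dg_of_rank k hA', ← K707.Deg.dg_of_rank k hB', ← K707.Deg.dg_of_rank k hE]
  exact h2

include hdim hgen in
theorem deg_N {A B N : C.left.Modules} (hA : PicF.IsInvertible A) (hB : PicF.IsInvertible B)
    (hN : PicF.IsInvertible N) (e : CohB1.tensorMod N A ≅ CohB1.tensorMod (Omega.sheaf C.hom) B) :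
    Curv2.deg k C.left N 1 = 2 * (g : ℤ) - 2 + Curv2.deg k C.left B 1 - Curv2.deg k C.left A 1 := by
  have h1 : IsProper (C.left ↘ Spec (CommRingCat.of k)) := inferInstanceAs (IsProper C.hom)
  have h2 : Smooth (C.left ↘ Spec (CommRingCat.of k)) := inferInstanceAs (Smooth C.hom)
  have hΩ : PicF.IsInvertible (Omega.sheaf (C.left ↘ (Spec (CommRingCat.of k)))) :=
    CurvesB.OmegaInv.isInvertible_omega _ hdim
  have h3 := K706.Secant.deg_inv_tensor (k := k) hdim hN hA
  have h4 := K706.Secant.deg_inv_tensor (k := k) hdim hΩ hB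
  have h5 := K708.Deg.deg_iso (n := 1) k e
  have h6 := K706.Secant.deg_K (k := k) hdim hgen (Iso.refl _)
  have h7 : Curv2.deg k C.left (CohB1.tensorMod (Omega.sheaf (C.left ↘ (Spec (CommRingCat.of k)))) B) 1 =
    Curv2.deg k C.left (CohB1.tensorMod (Omega.sheaf C.hom) B) 1 := rfl
  rw [h3, ← h7, h4, h6] at h5
  omega

theorem exists_factor {P Q : C.left.Modules} (hP : PicF.IsInvertible P) (hQ : PicF.IsInvertible Q) :
    ∃ M : C.left.Modules, PicF.IsInvertible M ∧ Nonempty (CohB1.tensorMod M Q ≅ P) := by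
  obtain ⟨Q', hQ', ⟨e⟩⟩ := K706.InvTens.exists_inv hQ
  refine ⟨P ⊗ Q', Fdesc.LocGen.isInvertible_tensorMod hP hQ', ⟨?_⟩⟩
  exact (α_ P Q' Q : (P ⊗ Q') ⊗ Q ≅ P ⊗ (Q' ⊗ Q)) ≪≫ whiskerLeftIso P (β_ Q' Q ≪≫ e) ≪≫ ρ_ P

end K553.SubDeg
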