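import Groth.Agent.VBCurve.K553.SubDeg
import Groth.Agent.VBCurve.K569.SubInv
import Groth.Agent.VBCurve.K427.SubVan
import Groth.Agent.VBCurve.K226.Pow
import Groth.Agent.VBCurve.K278.SubMax
import Groth.Agent.VBCurve.K52.SubDiv
import Groth.Agent.VBCurve.K52.TwTens
import Groth.Agent.VBCurve.K784.SubSemi
import Groth.Agent.VBCurve.K704.InvHom
import Groth.Agent.CurvesB.OmegaInv
import Groth.Agent.Fdesc.LocGenTensor
import Groth.Agent.S1521
import Groth.Prelude.Def_PicGrp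

/-!
# Finiteness of the set of zeros
-/

set_option autoImplicit false
universe u
open CategoryTheory CategoryTheory.Limits AlgebraicGeometry

namespace K553.SubFin

open K553.Sub

/-! ### topology -/

/-- A closed subset of a scheme of finite type which is locally (at closed points) finite has finitely many
closed points. -/
theorem finite_closedPts {T : Type*} [TopologicalSpace T] [T0Space T] [CompactSpace T] (Z : Set T) (hZ : IsClosed Z)
    (h : ∀ z ∈ Z, IsClosed ({z} : Set T) → ∃ U : Set T, IsOpen U ∧ z ∈ U ∧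
      {y | y ∈ Z ∧ y ∈ U ∧ IsClosed ({y} : Set T)}.Finite) :
    {z | z ∈ Z ∧ IsClosed ({z} : Set T)}.Finite := by
  classical
  choose! U hU1 hU2 hU3 using h
  let Z₀ : Set T := {z | z ∈ Z ∧ IsClosed ({z} : Set T)}
  have hcov : Z ⊆ ⋃ z : Z₀, U z := by
    intro z hz
    obtain ⟨z₀, h1, h2⟩ := IsClosed.exists_closed_singleton (isClosed_closure (s := ({z} : Set T)))
      ⟨z, subset_closure rfl⟩
    have h3 : z₀ ∈ Z := (closure_minimal (Set.singleton_subset_iff.2 hz) hZ) h1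
    refine Set.mem_iUnion.2 ⟨⟨z₀, h3, h2⟩, ?_⟩
    have h4 : z ⤳ z₀ := specializes_iff_mem_closure.2 h1
    exact h4.mem_open (hU1 z₀ h3 h2) (hU2 z₀ h3 h2)
  obtain ⟨s, hs⟩ := hZ.isCompact.elim_finite_subcover (fun z : Z₀ => U z) (fun z => hU1 z z.2.1 z.2.2) hcov
  refine (Set.Finite.biUnion s.finite_toSet (t := fun z : Z₀ => {y | y ∈ Z ∧ y ∈ U z ∧ IsClosed ({y} : Set T)})
    fun z _ => hU3 z z.2.1 z.2.2).subset ?_
  rintro y ⟨hy, hy'⟩
  obtain ⟨z, hz, hyz⟩ := Set.mem_iUnion₂.1 (hs hy)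
  exact Set.mem_iUnion₂.2 ⟨z, hz, hy, hyz, hy'⟩

section curve

variable {k : Type u} [Field k] [IsAlgClosed k] (C : Over (Spec (CommRingCat.of k)))
  [IsIntegral C.left] [IsProper C.hom] [Smooth C.hom] (hdim : topologicalKrullDim C.left = 1)

/-- Maps from the point to the power are tuples of points. -/
theorem pw_ext {n : ℕ} {t t' : pt (Spec (CommRingCat.of k)) ⟶ Pw C n}
    (h : ∀ i, t ≫ crd C n i = t' ≫ crd C n i) : t = t' := Pw_hom_ext C n h

theorem exists_point : Nonempty (pt (Spec (CommRingCat.of k)) ⟶ C) := by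
  have hcomp : CompactSpace C.left := (quasiCompact_iff_compactSpace (f := C.hom)).1 inferInstance
  have : Nonempty C.left := inferInstance
  obtain ⟨z, -, hz⟩ := IsClosed.exists_closed_singleton (X := C.left) isClosed_univ Set.univ_nonempty
  obtain ⟨c, -, -⟩ := exists_pt (T := C) z hz
  exact ⟨c⟩

include hdim in
theorem mono_twpι {B : C.left.Modules} (hB : PicF.IsInvertible B)
    (x : List (pt (Spec (CommRingCat.of k)) ⟶ C)) : Mono (twpι B x) := by
  classical
  obtain ⟨c⟩ := exists_point C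
  exact (range_twpι C hdim B hB x c).1

/-- functoriality in the module -/
noncomputable def twIso {T : Over (Spec (CommRingCat.of k))} {N N' : C.left.Modules} (e : N ≅ N') :
    (l : List (T ⟶ C)) → (y : T ⟶ C) → (tw N l y ≅ tw N' l y)
  | [], y => (Scheme.Modules.pullback y.left).mapIso e
  | z :: l, y => PicGrp.tensorModIso (Iso.refl _) (twIso e l y)

theorem pts_tup {n : ℕ} (x : Fin n → (pt (Spec (CommRingCat.of k)) ⟶ C)) :
    (pts fun i => tup n x ≫ crd C n i) = pts x := by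
  congr 1
  funext i
  exact tup_crd C n x i

variable {g : ℕ} (hgen : Curv2.genus k C.left = g) (E : C.left.Modules) (hE : FlatMod.IsFinLocFreeOfRank 2 E)
  {K : C.left.Modules} (eK : K ≅ Omega.sheaf C.hom)
  (hvs : ∀ α : E ⟶ CohB1.tensorMod E K,
        α ≫ (CohB1.sheafifyMod C.left).map
          (MonoidalCategoryStruct.whiskerRight (C := CohB1.PMod C.left) α.val (CohB1.toPMod K)) = 0 → α = 0)
  (d : ℤ)
  (hmax : ∀ (M : C.left.Modules) (m : M ⟶ E), PicF.IsInvertible M → Mono m → Curv2.deg k C.left M 1 ≤ d)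
  (hdE : Curv2.deg k C.left E 2 = 2 * d + (g - 1))

include hdim hgen hE eK hvs hmax hdE in
/-- Two lifts near each other are equal. -/
theorem exists_nhd {B : C.left.Modules} (hB : PicF.IsInvertible B) (b : E ⟶ B) {n : ℕ}
    (hn : Curv2.deg k C.left B 1 = d + n)
    (t₀ : pt (Spec (CommRingCat.of k)) ⟶ Pw C n)
    (φ₀ : twp B (pts fun i => t₀ ≫ crd C n i) ⟶ E) (hφ₀ : φ₀ ≫ b = twpι B (pts fun i => t₀ ≫ crd C n i)) :
    ∃ U : (Pw C n).left.Opens, atp t₀ ∈ U ∧ ∀ t : pt (Spec (CommRingCat.of k)) ⟶ Pw C n, atp t ∈ U →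
      ∀ φ : twp B (pts fun i => t ≫ crd C n i) ⟶ E, φ ≫ b = twpι B (pts fun i => t ≫ crd C n i) →
        (pts fun i => t ≫ crd C n i).Perm (pts fun i => t₀ ≫ crd C n i) := by
  have hω : PicF.IsInvertible (Omega.sheaf C.hom) :=
    Groth.Agent.CurvesB.OmegaInv.isInvertible_omega C.hom hdim
  have hlen : ∀ t : pt (Spec (CommRingCat.of k)) ⟶ Pw C n, (pts fun i => t ≫ crd C n i).length = n := by
    intro t
    simp [pts]
  have hdeg : ∀ t : pt (Spec (CommRingCat.of k)) ⟶ Pw C n,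
      Curv2.deg k C.left (twp B (pts fun i => t ≫ crd C n i)) 1 = d := by
    intro t
    rw [deg_twp C hdim B hB, hlen, hn]
    ring
  have hinv : ∀ (M : C.left.Modules) (_ : PicF.IsInvertible M) (x : List (pt (Spec (CommRingCat.of k)) ⟶ C)),
      PicF.IsInvertible (twp M x) := fun M hM x => isInvertible_tw C hdim M hM _ _
  classical
  have hmono : ∀ x : List (pt (Spec (CommRingCat.of k)) ⟶ C), Mono (twpι B x) := mono_twpι C hdim hB
  have hm0 : Mono φ₀ := by
    have h1 : Mono (φ₀ ≫ b) := by rw [hφ₀]; exact hmono _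
    exact mono_of_mono φ₀ b
  obtain ⟨Q, q, w, hQ, hS, hdQ⟩ := exists_quotient C hdim E hE d hmax _ φ₀ (hinv B hB _) hm0 (hdeg t₀)
  obtain ⟨h1, h2⟩ := very_stable C hdim hgen E hE eK hvs
    (hinv B hB _) hQ φ₀ q w hS (by rw [hdQ, hdeg, hdE]; ring)
  obtain ⟨M, hM, ⟨eM⟩⟩ := K553.SubDeg.exists_factor C (Groth.Agent.Fdesc.LocGen.isInvertible_tensorMod hB hω) hQ
  have key : ∀ t : pt (Spec (CommRingCat.of k)) ⟶ Pw C n,
      Nonempty (CohB1.tensorMod (twp M (pts fun i => t ≫ crd C n i)) Q ≅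
        CohB1.tensorMod (twp B (pts fun i => t ≫ crd C n i)) (Omega.sheaf C.hom)) := by
    intro t
    obtain ⟨e1⟩ := nonempty_twp_tensor C M Q (pts fun i => t ≫ crd C n i)
    obtain ⟨e2⟩ := nonempty_twp_tensor C B (Omega.sheaf C.hom) (pts fun i => t ≫ crd C n i)
    exact ⟨e1 ≪≫ twIso C eM _ _ ≪≫ e2.symm⟩
  obtain ⟨U, hU⟩ := exists_open_H1 C hdim n M hM
  refine ⟨U, (hU t₀).2 (h2 _ (hinv M hM _) (key t₀)), fun t ht φ hφ => ?_⟩
  obtain ⟨e⟩ := key t
  have h3 := hom_eq_zero_of_H1 C hdim (hinv B hB _) hQ (hinv M hM _) e ((hU t).1 ht) (φ ≫ q)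
  have hm : Mono φ := by
    have h1 : Mono (φ ≫ b) := by rw [hφ]; exact hmono _
    exact mono_of_mono φ b
  have hm0' : Mono (ShortComplex.mk φ₀ q w).f := hm0
  obtain ⟨ψ, hψ⟩ : ∃ ψ : twp B (pts fun i => t ≫ crd C n i) ⟶ twp B (pts fun i => t₀ ≫ crd C n i), ψ ≫ φ₀ = φ :=
    ⟨hS.exact.lift φ h3, hS.exact.lift_f φ h3⟩
  have hψ0 : ψ ≠ 0 := by
    rintro rfl
    rw [zero_comp] at hψ
    have : Nonempty C.left := inferInstance
    exact K704.InvHom.ne_zero_of_mono (hinv B hB _) φ hψ.symm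
  have hpr : IsProper (C.left ↘ Spec (CommRingCat.of k)) := inferInstanceAs (IsProper C.hom)
  have hiso : IsIso ψ := (Groth.Agent.S1521.result k C.left hdim _ _ (hinv B hB _) (hinv B hB _) ψ hψ0).2
    (by rw [hdeg, hdeg])
  refine count_eq_of_iso C hdim hB _ _ (asIso ψ) ?_
  rw [asIso_hom, ← hφ₀, ← Category.assoc, hψ, hφ]

include hdim hgen hE eK hvs hmax hdE in
/-- There are finitely many liftings. -/
theorem finite_lifts {B : C.left.Modules} (hB : PicF.IsInvertible B) (b : E ⟶ B) {n : ℕ}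
    (hn : Curv2.deg k C.left B 1 = d + n)
    (Z : Set (Pw C n).left) (hZ : IsClosed Z)
    (hZ' : ∀ t : pt (Spec (CommRingCat.of k)) ⟶ Pw C n, atp t ∈ Z ↔
      ∃ φ : twp B (pts fun i => t ≫ crd C n i) ⟶ E, φ ≫ b = twpι B (pts fun i => t ≫ crd C n i)) :
    {x : Fin n → (pt (Spec (CommRingCat.of k)) ⟶ C) |
      ∃ φ : twp B (pts x) ⟶ E, φ ≫ b = twpι B (pts x)}.Finite := by
  classical
  have hprop : IsProper (Pw C n).hom := (smooth_Pw C n).2
  have hcomp : CompactSpace (Pw C n).left := by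
    have := hprop
    exact (quasiCompact_iff_compactSpace (f := (Pw C n).hom)).1 inferInstance
  have hfin := finite_closedPts Z hZ (fun z hz hzc => ?_)
  · refine Set.Finite.of_finite_image (f := fun x => atp (tup n x)) (hfin.subset ?_) ?_
    · rintro _ ⟨x, hx, rfl⟩
      refine ⟨(hZ' _).2 ?_, isClosed_atp (T := Pw C n) _⟩
      have : (pts fun i => tup n x ≫ crd C n i) = pts x := pts_tup C x
      rw [this]
      exact hx
    · intro x _ y _ hxy
      obtain ⟨t, -, ht⟩ := exists_pt (T := Pw C n) (atp (tup n x)) (isClosed_atp _)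
      have h1 : tup n x = tup n y := (ht _ rfl).trans (ht _ hxy.symm).symm
      funext i
      rw [← tup_crd C n x i, ← tup_crd C n y i, h1]
  · obtain ⟨t₀, rfl, -⟩ := exists_pt (T := Pw C n) z hzc
    obtain ⟨φ₀, hφ₀⟩ := (hZ' t₀).1 hz
    obtain ⟨U, hU1, hU2⟩ := exists_nhd C hdim hgen E hE eK hvs d hmax hdE hB b hn t₀ φ₀ hφ₀
    refine ⟨U, U.2, hU1, ?_⟩
    have hF : {x : Fin n → (pt (Spec (CommRingCat.of k)) ⟶ C) |
        (pts x).Perm (pts fun i => t₀ ≫ crd C n i)}.Finite := by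
      refine (Set.Finite.pi' (t := fun _ : Fin n =>
        {c | c ∈ (pts fun i => t₀ ≫ crd C n i)}) fun i => List.finite_toSet _).subset ?_
      intro x hx i
      have : x i ∈ pts x := by simp [pts]
      exact hx.subset this
    refine (hF.image fun x => atp (tup n x)).subset ?_
    rintro _ ⟨hy1, hy2, hy3⟩
    obtain ⟨t, rfl, -⟩ := exists_pt (T := Pw C n) _ hy3
    obtain ⟨φ, hφ⟩ := (hZ' t).1 hy1
    refine ⟨fun i => t ≫ crd C n i, hU2 t hy2 φ hφ, ?_⟩
    change atp (tup n fun i => t ≫ crd C n i) = atp t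
    congr 1
    exact pw_ext C fun i => tup_crd C n _ i

end curve

end K553.SubFin
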