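import Groth.Agent.VBCurve.K553.SubFin
import Groth.Agent.VBCurve.K118.SubLoc1
import Groth.Agent.CycB.PushStalk

/-!
# The zero locus
-/

set_option autoImplicit false
universe u
open CategoryTheory CategoryTheory.Limits AlgebraicGeometry

namespace K553.SubZero

open K553.Sub K553.SubFin

open Groth.Agent.CycB.StalkExact

variable {k : Type u} [Field k] [IsAlgClosed k] (C : Over (Spec (CommRingCat.of k)))
  [IsIntegral C.left] [IsProper C.hom] [Smooth C.hom] (hdim : topologicalKrullDim C.left = 1)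
  {g : ℕ} (hgen : Curv2.genus k C.left = g)

theorem cl_length {S : Scheme.{u}} (C : Over S) (n i : ℕ) (h : i ≤ n) : (cl C n i).length = i := by
  induction i with
  | zero => rfl
  | succ i ih =>
    rw [cl, dif_pos (by omega), List.length_cons, ih (by omega)]

section one

variable {X : Scheme.{u}}

/-- the generator of the stalk of the structure module -/
noncomputable def one (x : X) : (Coh.structureModule X).presheaf.stalk x :=
  (Coh.structureModule X).presheaf.germ ⊤ x trivial (1 : Γ(X, ⊤))

theorem isGen_one (x : X) : Function.Bijective (fun r : X.presheaf.stalk x => r • one x) :=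
  Groth.Agent.CycB.PushStalk.unitStalkLin_bijective x

theorem not_surj_of_le {K : X.Modules} (φ : K ⟶ Coh.structureModule X) (x : X)
    (h : LinearMap.range (stalkLin φ x) ≤ IsLocalRing.maximalIdeal (X.presheaf.stalk x) • ⊤) :
    ¬ Function.Surjective (stalkLin φ x) := by
  intro hs
  have h1 : one x ∈ IsLocalRing.maximalIdeal (X.presheaf.stalk x) •
      (⊤ : Submodule (X.presheaf.stalk x) ((Coh.structureModule X).presheaf.stalk x)) := h (hs (one x))
  have h2 : ∀ m ∈ IsLocalRing.maximalIdeal (X.presheaf.stalk x) •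
      (⊤ : Submodule (X.presheaf.stalk x) ((Coh.structureModule X).presheaf.stalk x)),
      ∃ r ∈ IsLocalRing.maximalIdeal (X.presheaf.stalk x), m = r • one x := by
    intro m hm
    refine Submodule.smul_induction_on hm ?_ ?_
    · intro r hr n _
      obtain ⟨s, hs⟩ := (isGen_one x).2 n
      refine ⟨r * s, Ideal.mul_mem_right _ _ hr, ?_⟩
      rw [mul_smul]
      exact congrArg (r • ·) hs.symm
    · rintro _ _ ⟨r, hr, rfl⟩ ⟨s, hs, rfl⟩
      exact ⟨r + s, Ideal.add_mem _ hr hs, (add_smul _ _ _).symm⟩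
  obtain ⟨r, hr, h3⟩ := h2 _ h1
  have h4 : (1 : X.presheaf.stalk x) = r := (isGen_one x).1 (by
    change (1 : X.presheaf.stalk x) • one x = r • one x
    rw [one_smul, ← h3])
  rw [← h4] at hr
  exact (Ideal.ne_top_iff_one _).1 (IsLocalRing.maximalIdeal.isMaximal _).ne_top hr

/-- Surjectivity of a map to the structure sheaf is an open condition. -/
theorem isOpen_surj' {K : X.Modules} (φ : K ⟶ Coh.structureModule X) :
    IsOpen {t : X | Function.Surjective (stalkLin φ t)} := by
  rw [isOpen_iff_forall_mem_open]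
  intro t ht
  obtain ⟨s, hs⟩ := ht (one t)
  obtain ⟨U, hU, m, rfl⟩ := K.presheaf.exists_germ_eq s
  rw [stalkLin_germ] at hs
  have hs' : (Coh.structureModule X).presheaf.germ U t hU (φ.app U m) =
      (Coh.structureModule X).presheaf.germ ⊤ t trivial (1 : Γ(X, ⊤)) := hs
  obtain ⟨W, hW, iU, iT, hW'⟩ := TopCat.Presheaf.germ_eq _ t hU (V := ⊤) trivial _ _ hs'
  refine ⟨W, ?_, W.2, hW⟩
  intro t' ht' y
  obtain ⟨r, hr⟩ := (isGen_one t').2 y
  refine ⟨r • K.presheaf.germ U t' (iU.le ht') m, ?_⟩
  rw [map_smul, stalkLin_germ, ← hr]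
  congr 1
  have h1 := congrArg (fun z => (Coh.structureModule X).presheaf.germ W t' ht' z) hW'
  simp only [TopCat.Presheaf.germ_res_apply] at h1
  exact h1

end one

include hdim hgen in
theorem finite_V {N : C.left.Modules} (hN : PicF.IsInvertible N) :
    Module.Finite k (Coh.structureModule C.left ⟶ N) := (finrank_vanSub C hdim hgen N hN []).1

include hdim hgen in
theorem closed_zero {n : ℕ} (hgn : g ≤ n) {N : C.left.Modules} (hN : PicF.IsInvertible N)
    (hd : Curv2.deg k C.left N 1 = 2 * (n : ℤ) - 1 + g) (ε : (Coh.structureModule C.left ⟶ N) →ₗ[k] k) :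
    ∃ Z : Set (Pw C n).left, IsClosed Z ∧ ∀ t : pt (Spec (CommRingCat.of k)) ⟶ Pw C n,
      atp t ∈ Z ↔ IsZ ε (pts fun i => t ≫ crd C n i) := by
  have := finite_V C hdim hgen hN
  obtain ⟨hsm, hpr⟩ := smooth_Pw C n
  obtain ⟨e, he⟩ := exists_epsT C hN ε (T := Pw C n)
  refine ⟨{t | ¬ Function.Surjective (stalkLin (Kι N (cl C n n) ≫ e) t)},
    (isOpen_surj' (Kι N (cl C n n) ≫ e)).isClosed_compl, fun t => ⟨fun ht => ?_, fun ht => ?_⟩⟩
  · by_contra h
    exact ht (loc_surj C hdim hgen hgn hN hd ε e he t h)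
  · exact not_surj_of_le _ _ (loc_le C hdim hgen hgn hN hd ε e he t ht)

end K553.SubZero
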